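import Mathlib.LinearAlgebra.Matrix.SpecialLinearGroup
import Mathlib.LinearAlgebra.Matrix.Basis
import Mathlib.LinearAlgebra.Matrix.ToLin
import Mathlib.LinearAlgebra.FiniteDimensional.Lemmas
import Mathlib.LinearAlgebra.Basis.Prod
import Mathlib.LinearAlgebra.Projection
import Mathlib.LinearAlgebra.Dimension.DivisionRing
import Mathlib.Tactic

/-!
# An identity block of an element of `SL_8(2)` (helper422)

Every element of `SL_8(2)` has a conjugate whose upper left `2 × 2` block is the identity.
-/

set_option autoImplicit false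

namespace Cfsg.Agent.H422.TW

open Module Matrix

variable {K : Type*} [Field K]

section lin

variable {V : Type*} [AddCommGroup V] [Module K V] [FiniteDimensional K V]

theorem finrank_comap_le (N : V →ₗ[K] V) (U : Submodule K V) :
    finrank K ↥(U.comap N) ≤ finrank K U + finrank K (LinearMap.ker N) := by
  have h1 := (N.domRestrict (U.comap N)).finrank_range_add_finrank_ker
  have h2 : finrank K ↥(LinearMap.range (N.domRestrict (U.comap N))) ≤ finrank K U := by
    refine Submodule.finrank_mono ?_
    rintro _ ⟨w, rfl⟩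
    exact w.2
  have h3 : finrank K ↥(LinearMap.ker (N.domRestrict (U.comap N))) ≤ finrank K (LinearMap.ker N) := by
    rw [← Submodule.finrank_map_subtype_eq]
    refine Submodule.finrank_mono ?_
    rintro _ ⟨w, hw, rfl⟩
    exact hw
  omega

/-- the plane -/
theorem exists_plane (hK : ∀ a : K, a = 0 ∨ a = 1) (hd : 8 ≤ finrank K V) (f : V →ₗ[K] V)
    (hf : Function.Injective f) :
    ∃ W : Submodule K V, finrank K W = 2 ∧ Disjoint W (W.map (f - LinearMap.id)) := by
  have h11 : (1 : K) + 1 = 0 := by
    rcases hK (1 + 1) with h | h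
    · exact h
    · exact absurd (by linear_combination h : (1 : K) = 0) one_ne_zero
  have hneg : ∀ v : V, v + v = 0 := fun v => by
    rw [← one_smul K v, ← add_smul, h11, zero_smul]
  set N : V →ₗ[K] V := f - LinearMap.id with hN
  have hNv : ∀ v, N v = f v - v := fun v => by simp [hN]
  by_cases hk : 2 ≤ finrank K (LinearMap.ker N)
  · obtain ⟨w, hw⟩ := exists_linearIndependent_of_le_finrank hk
    refine ⟨Submodule.span K (Set.range fun i => (w i : V)), ?_, ?_⟩
    · have h1 : LinearIndependent K fun i => (w i : V) :=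
        hw.map' (Submodule.subtype _) (Submodule.ker_subtype _)
      rw [finrank_span_eq_card h1, Fintype.card_fin]
    · have h2 : (Submodule.span K (Set.range fun i => (w i : V))).map N = ⊥ := by
        rw [Submodule.map_span, Submodule.span_eq_bot]
        rintro _ ⟨_, ⟨i, rfl⟩, rfl⟩
        exact (w i).2
      rw [h2]
      exact disjoint_bot_right
  · push Not at hk
    obtain ⟨e, he⟩ : ∃ e, N e ≠ 0 := by
      by_contra hcon
      push Not at hcon
      have h1 : LinearMap.ker N = ⊤ := by
        rw [LinearMap.ker_eq_top]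
        exact LinearMap.ext hcon
      rw [h1, finrank_top] at hk
      omega
    have he0 : e ≠ 0 := by
      rintro rfl
      exact he (map_zero _)
    set U : Submodule K V := Submodule.span K {e, N e} with hU
    have hUd : finrank K U ≤ 2 := by
      classical
      have h1 := finrank_span_finset_le_card (R := K) ({e, N e} : Finset V)
      rw [Set.finrank, Finset.coe_insert, Finset.coe_singleton] at h1
      exact h1.trans Finset.card_le_two
    have heU : e ∈ U := Submodule.subset_span (by simp)
    have hNeU : N e ∈ U := Submodule.subset_span (by simp)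
    have hk0 : LinearMap.ker f = ⊥ := LinearMap.ker_eq_bot.2 hf
    have h1 := finrank_comap_le N U
    have h2 := finrank_comap_le f U
    rw [hk0, finrank_bot, add_zero] at h2
    have h3 : finrank K ↥(U ⊔ U.comap N ⊔ U.comap f) ≤ 7 := by
      have a1 := Submodule.finrank_add_le_finrank_add_finrank U (U.comap N)
      have a2 := Submodule.finrank_add_le_finrank_add_finrank (U ⊔ U.comap N) (U.comap f)
      omega
    obtain ⟨g, hg⟩ : ∃ g, g ∉ U ⊔ U.comap N ⊔ U.comap f := by
      by_contra hcon
      push Not at hcon
      have h4 : U ⊔ U.comap N ⊔ U.comap f = ⊤ := by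
        rw [Submodule.eq_top_iff']
        exact hcon
      rw [h4, finrank_top] at h3
      omega
    have g1 : g ∉ U := fun h => hg (Submodule.mem_sup_left (Submodule.mem_sup_left h))
    have g2 : N g ∉ U := fun h => hg (Submodule.mem_sup_left (Submodule.mem_sup_right h))
    have g3 : f g ∉ U := fun h => hg (Submodule.mem_sup_right h)
    refine ⟨Submodule.span K {e, g}, ?_, ?_⟩
    · have h5 : LinearIndependent K ![e, g] := by
        rw [LinearIndependent.pair_iff]
        intro s t hst
        rcases hK t with rfl | rfl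
        · rw [zero_smul, add_zero] at hst
          exact ⟨(smul_eq_zero.1 hst).resolve_right he0, rfl⟩
        · exfalso
          refine g1 ?_
          have h6 : g = (-s) • e := by
            rw [one_smul] at hst
            rw [neg_smul]
            exact (neg_eq_of_add_eq_zero_right hst).symm
          rw [h6]
          exact U.smul_mem _ heU
      have h7 := finrank_span_eq_card h5
      rw [Fintype.card_fin, Matrix.range_cons, Matrix.range_cons, Matrix.range_empty, Set.union_empty,
        Set.singleton_union] at h7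
      exact h7
    · rw [Submodule.disjoint_def]
      intro w hw hw'
      rw [Submodule.map_span, Set.image_pair, Submodule.mem_span_pair] at hw'
      rw [Submodule.mem_span_pair] at hw
      obtain ⟨a, b, rfl⟩ := hw
      obtain ⟨c, d, h⟩ := hw'
      have ha : a • e ∈ U := U.smul_mem _ heU
      have hc : c • N e ∈ U := U.smul_mem _ hNeU
      rcases hK b with rfl | rfl <;> rcases hK d with rfl | rfl
      · rw [zero_smul, add_zero] at h ⊢
        rw [zero_smul, add_zero] at h
        rcases hK a with rfl | rfl
        · rw [zero_smul]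
        · exfalso
          rcases hK c with rfl | rfl
          · rw [zero_smul, one_smul] at h
            exact he0 h.symm
          · rw [one_smul, one_smul, hNv] at h
            have h8 : f e = 0 := by
              rw [sub_eq_iff_eq_add, hneg] at h
              exact h
            exact he0 (hf (by rw [h8, map_zero]))
      · exfalso
        rw [zero_smul, add_zero, one_smul] at h
        refine g2 ?_
        rw [show N g = a • e - c • N e by rw [← h]; abel]
        exact U.sub_mem ha hc
      · exfalso
        rw [zero_smul, add_zero, one_smul] at h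
        refine g1 ?_
        rw [show g = c • N e - a • e by rw [h]; abel]
        exact U.sub_mem hc ha
      · exfalso
        rw [one_smul, one_smul, hNv g] at h
        refine g3 ?_
        have h9 : f g = a • e - c • N e + (g + g) := by
          have h10 : f g - g = a • e + g - c • N e := by
            rw [← h]
            abel
          rw [sub_eq_iff_eq_add.1 h10]
          abel
        rw [h9, hneg, add_zero]
        exact U.sub_mem ha hc

end lin

/-- a plane which is disjoint from its image under `M - 1` gives the block -/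
theorem exists_block {M : Matrix (Fin 2 ⊕ Fin 6) (Fin 2 ⊕ Fin 6) K} (W : Submodule K (Fin 2 ⊕ Fin 6 → K))
    (hW : finrank K W = 2) (h : Disjoint W (W.map (Matrix.toLin' M - LinearMap.id))) :
    ∃ S T : Matrix (Fin 2 ⊕ Fin 6) (Fin 2 ⊕ Fin 6) K, S * T = 1 ∧ (S * M * T).toBlocks₁₁ = 1 := by
  obtain ⟨W', hle, hc⟩ := h.symm.exists_isCompl
  have h6 : finrank K W' = 6 := by
    have h1 := Submodule.finrank_add_eq_of_isCompl hc
    rw [hW, finrank_fintype_fun_eq_card, Fintype.card_sum, Fintype.card_fin, Fintype.card_fin] at h1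
    omega
  let b : Basis (Fin 2 ⊕ Fin 6) K (Fin 2 ⊕ Fin 6 → K) :=
    ((finBasisOfFinrankEq K W hW).prod (finBasisOfFinrankEq K W' h6)).map (W.prodEquivOfIsCompl W' hc.symm)
  have hb1 : ∀ j, b (Sum.inl j) ∈ W := fun j => by
    simp [b]
  have hb2 : ∀ w ∈ W', ∀ i, b.repr w (Sum.inl i) = 0 := fun w hw i => by
    have h2 : (W.prodEquivOfIsCompl W' hc.symm).symm w = ((0 : W), (⟨w, hw⟩ : W')) := by
      rw [LinearEquiv.symm_apply_eq]
      simp
    simp [b, h2]
  refine ⟨b.toMatrix (Pi.basisFun K _), (Pi.basisFun K _).toMatrix b, b.toMatrix_mul_toMatrix_flip _, ?_⟩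
  have h3 : b.toMatrix (Pi.basisFun K _) * M * (Pi.basisFun K _).toMatrix b =
      LinearMap.toMatrix b b (Matrix.toLin' M) := by
    rw [← basis_toMatrix_mul_linearMap_toMatrix_mul_basis_toMatrix b (Pi.basisFun K _) b (Pi.basisFun K _),
      LinearMap.toMatrix_eq_toMatrix', LinearMap.toMatrix'_toLin']
  rw [h3]
  ext i j
  rw [Matrix.toBlocks₁₁, Matrix.of_apply, LinearMap.toMatrix_apply]
  have h4 : (Matrix.toLin' M) (b (Sum.inl j)) =
      ((Matrix.toLin' M - LinearMap.id : (Fin 2 ⊕ Fin 6 → K) →ₗ[K] (Fin 2 ⊕ Fin 6 → K)) (b (Sum.inl j))) +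
        b (Sum.inl j) := by simp
  rw [h4, map_add, Finsupp.add_apply, hb2 _ (hle ⟨_, hb1 j, rfl⟩) i, zero_add, b.repr_self]
  by_cases hij : i = j
  · subst hij
    simp
  · rw [Matrix.one_apply_ne hij, Finsupp.single_apply, if_neg]
    intro h5
    exact hij (Sum.inl_injective h5).symm

/-- **Lemma B** -/
theorem lemB (hK : Nat.card K = 2) (M : Matrix.SpecialLinearGroup (Fin 2 ⊕ Fin 6) K) :
    ∃ S : Matrix.SpecialLinearGroup (Fin 2 ⊕ Fin 6) K, (S * M * S⁻¹).1.toBlocks₁₁ = 1 := by
  have hK' : ∀ a : K, a = 0 ∨ a = 1 := by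
    intro a
    classical
    by_contra hcon
    push Not at hcon
    have hfin : Finite K := Nat.finite_of_card_ne_zero (by rw [hK]; norm_num)
    let _ : Fintype K := Fintype.ofFinite K
    rw [Nat.card_eq_fintype_card] at hK
    have h1 : ({0, 1, a} : Finset K).card ≤ Fintype.card K := Finset.card_le_univ _
    rw [Finset.card_insert_of_notMem (by simp [hcon.1.symm]), Finset.card_insert_of_notMem (by simp [hcon.2.symm]),
      Finset.card_singleton] at h1
    omega
  have hinj : Function.Injective (Matrix.toLin' M.1) := by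
    have h1 : (M⁻¹).1 * M.1 = 1 := congrArg Subtype.val (inv_mul_cancel M)
    intro v w hvw
    rw [Matrix.toLin'_apply, Matrix.toLin'_apply] at hvw
    have h2 : (M⁻¹).1 *ᵥ (M.1 *ᵥ v) = (M⁻¹).1 *ᵥ (M.1 *ᵥ w) := by rw [hvw]
    rwa [Matrix.mulVec_mulVec, Matrix.mulVec_mulVec, h1, Matrix.one_mulVec, Matrix.one_mulVec] at h2
  obtain ⟨W, hW, hd⟩ := exists_plane hK' (V := Fin 2 ⊕ Fin 6 → K)
    (by rw [finrank_fintype_fun_eq_card]; simp) (Matrix.toLin' M.1) hinj
  obtain ⟨S, T, hST, hB⟩ := exists_block W hW hd
  have hdet : S.det = 1 := by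
    have h1 : S.det * T.det = 1 := by rw [← Matrix.det_mul, hST, Matrix.det_one]
    rcases hK' S.det with h | h
    · rw [h, zero_mul] at h1
      exact absurd h1 zero_ne_one
    · exact h
  let S' : Matrix.SpecialLinearGroup (Fin 2 ⊕ Fin 6) K := ⟨S, hdet⟩
  have h2 : (S'⁻¹).1 = T := by
    have h3 : S * (S'⁻¹).1 = 1 := congrArg Subtype.val (mul_inv_cancel S')
    have h4 : T * S = 1 := mul_eq_one_comm.1 hST
    calc (S'⁻¹).1 = T * S * (S'⁻¹).1 := by rw [h4, one_mul]
      _ = T * (S * (S'⁻¹).1) := mul_assoc _ _ _
      _ = T := by rw [h3, mul_one]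
  refine ⟨S', ?_⟩
  have h5 : (S' * M * S'⁻¹).1 = S * M.1 * (S'⁻¹).1 := rfl
  rw [h5, h2]
  exact hB

end Cfsg.Agent.H422.TW
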