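import Cfsg.Agent.H422.TW.Plane
import Mathlib.LinearAlgebra.Matrix.Rank

/-!
# The form `[[1, Y], [X, C + X Y]]` with `C` not a given scalar (helper422)
-/

set_option autoImplicit false

namespace Cfsg.Agent.H422.TW

open Module Matrix

variable {K : Type*} [Field K]

section lin

variable {V : Type*} [AddCommGroup V] [Module K V] [FiniteDimensional K V]

/-- two vectors which are independent with their images -/
theorem exists_indep [Finite K] (hd : finrank K V = 8) (N : V →ₗ[K] V)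
    (h : ∀ δ : K, 2 ≤ finrank K (LinearMap.range (N - δ • LinearMap.id))) :
    ∃ e g : V, ∀ a b c t : K, a • e + b • N e + c • g + t • N g = 0 → a = 0 ∧ b = 0 ∧ c = 0 ∧ t = 0 := by
  classical
  set D : K → V →ₗ[K] V := fun δ => N - δ • LinearMap.id with hD
  have hDv : ∀ δ v, D δ v = N v - δ • v := fun δ v => by simp [hD]
  have hrk : ∀ δ, finrank K (LinearMap.range (D δ)) + finrank K (LinearMap.ker (D δ)) = 8 := fun δ => by
    rw [LinearMap.finrank_range_add_finrank_ker, hd]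
  have h6 : ∀ δ, finrank K (LinearMap.ker (D δ)) ≤ 6 := by
    intro δ
    have h1 : 2 ≤ finrank K (LinearMap.range (D δ)) := h δ
    have h2 := hrk δ
    omega
  have hpair : ∀ δ δ', δ ≠ δ' → finrank K (LinearMap.ker (D δ)) + finrank K (LinearMap.ker (D δ')) ≤ 8 := by
    intro δ δ' hne
    have h1 : Disjoint (LinearMap.ker (D δ)) (LinearMap.ker (D δ')) := by
      rw [Submodule.disjoint_def]
      intro v hv hv'
      rw [LinearMap.mem_ker, hDv] at hv hv'
      have h2 : (δ - δ') • v = 0 := by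
        rw [sub_smul, ← sub_eq_zero.1 hv, ← sub_eq_zero.1 hv', sub_self]
      exact (smul_eq_zero.1 h2).resolve_left (sub_ne_zero.2 hne)
    have h3 := Submodule.finrank_add_finrank_le_of_disjoint h1
    rwa [hd] at h3
  obtain ⟨d, hdd⟩ : ∃ d, ∀ δ, δ ≠ d → finrank K (LinearMap.ker (D δ)) ≤ 4 := by
    by_cases hex : ∃ d, 5 ≤ finrank K (LinearMap.ker (D d))
    · obtain ⟨d, hd5⟩ := hex
      exact ⟨d, fun δ hδ => by have := hpair δ d hδ; omega⟩
    · push Not at hex
      exact ⟨0, fun δ _ => by have := hex δ; omega⟩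
  obtain ⟨R, hR2, hR⟩ : ∃ R : Submodule K V, finrank K R ≤ 2 ∧
      (finrank K (LinearMap.ker (D d)) = 6 → R = LinearMap.range (D d)) := by
    by_cases h1 : finrank K (LinearMap.ker (D d)) = 6
    · exact ⟨LinearMap.range (D d), by have := hrk d; omega, fun _ => rfl⟩
    · exact ⟨⊥, by simp, fun h2 => absurd h2 h1⟩
  obtain ⟨e, heR, he⟩ := exists_notMem hd R hR2 (fun δ => LinearMap.ker (D δ)) d ((h6 d).trans (by norm_num))
    (fun δ _ => h6 δ)
  have he0 : e ≠ 0 := by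
    rintro rfl
    exact heR R.zero_mem
  have hNe : ∀ c : K, N e ≠ c • e := fun c hc => he c (by rw [LinearMap.mem_ker, hDv, hc, sub_self])
  set U : Submodule K V := Submodule.span K {e, N e} with hU
  have hUd : finrank K U ≤ 2 := by
    have h1 := finrank_span_finset_le_card (R := K) ({e, N e} : Finset V)
    rw [Set.finrank, Finset.coe_insert, Finset.coe_singleton] at h1
    exact h1.trans Finset.card_le_two
  have heU : e ∈ U := Submodule.subset_span (by simp)
  have hNeU : N e ∈ U := Submodule.subset_span (by simp)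
  obtain ⟨g, hgU, hg⟩ := exists_notMem hd U hUd (fun δ => U.comap (D δ)) d
    (by
      have h1 := finrank_comap_le' (D d) U
      have h2 := Submodule.finrank_mono (inf_le_left : U ⊓ LinearMap.range (D d) ≤ U)
      have h3 := h6 d
      by_cases h4 : finrank K (LinearMap.ker (D d)) = 6
      · have h5 : U ⊓ LinearMap.range (D d) < U := by
          refine lt_of_le_of_ne inf_le_left fun h5 => ?_
          rw [← hR h4] at h5
          have : e ∈ U ⊓ R := by rw [h5]; exact heU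
          exact heR this.2
        have h6 := Submodule.finrank_lt_finrank_of_lt h5
        show finrank K ↥(U.comap (D d)) ≤ 7
        omega
      · show finrank K ↥(U.comap (D d)) ≤ 7
        omega)
    (fun δ hδ => by
      have h1 := finrank_comap_le' (D δ) U
      have h2 := Submodule.finrank_mono (inf_le_left : U ⊓ LinearMap.range (D δ) ≤ U)
      have h3 := hdd δ hδ
      show finrank K ↥(U.comap (D δ)) ≤ 6
      omega)
  refine ⟨e, g, fun a b c t h0 => ?_⟩
  have ht : t = 0 := by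
    by_contra ht
    refine hg (-(t⁻¹ * c)) ?_
    rw [Submodule.mem_comap, hDv, neg_smul, sub_neg_eq_add]
    have h1 : t • (N g + (t⁻¹ * c) • g) = -(a • e + b • N e) := by
      rw [smul_add, smul_smul, ← mul_assoc, mul_inv_cancel₀ ht, one_mul]
      rw [eq_neg_iff_add_eq_zero, ← h0]
      abel
    have h2 : N g + (t⁻¹ * c) • g = t⁻¹ • (-(a • e + b • N e)) := by
      rw [← h1, smul_smul, inv_mul_cancel₀ ht, one_smul]
    rw [h2]
    exact U.smul_mem _ (U.neg_mem (U.add_mem (U.smul_mem _ heU) (U.smul_mem _ hNeU)))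
  subst ht
  rw [zero_smul, add_zero] at h0
  have hc : c = 0 := by
    by_contra hc
    refine hgU ?_
    have h1 : c • g = -(a • e + b • N e) := by
      rw [eq_neg_iff_add_eq_zero, ← h0]
      abel
    have h2 : g = c⁻¹ • (-(a • e + b • N e)) := by rw [← h1, smul_smul, inv_mul_cancel₀ hc, one_smul]
    rw [h2]
    exact U.smul_mem _ (U.neg_mem (U.add_mem (U.smul_mem _ heU) (U.smul_mem _ hNeU)))
  subst hc
  rw [zero_smul, add_zero] at h0
  have hb : b = 0 := by
    by_contra hb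
    refine hNe (-(b⁻¹ * a)) ?_
    have h1 : b • N e = -(a • e) := by
      rw [eq_neg_iff_add_eq_zero, ← h0]
      abel
    have h2 : N e = b⁻¹ • (-(a • e)) := by rw [← h1, smul_smul, inv_mul_cancel₀ hb, one_smul]
    rw [h2, smul_neg, smul_smul, neg_smul]
  subst hb
  rw [zero_smul, add_zero] at h0
  exact ⟨(smul_eq_zero.1 h0).resolve_right he0, rfl, rfl, rfl⟩

end lin

/-- the block form of a plane -/
theorem exists_block' {M : Matrix (Fin 2 ⊕ Fin 6) (Fin 2 ⊕ Fin 6) K} (W : Submodule K (Fin 2 ⊕ Fin 6 → K))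
    (hW : finrank K W = 2) (h : Disjoint W (W.map (Matrix.toLin' M - LinearMap.id)))
    {e : Fin 2 ⊕ Fin 6 → K} (he : e ∈ W) (hne : Matrix.toLin' M e ≠ e) :
    ∃ S T : Matrix (Fin 2 ⊕ Fin 6) (Fin 2 ⊕ Fin 6) K, S * T = 1 ∧ (S * M * T).toBlocks₁₁ = 1 ∧
      (S * M * T).toBlocks₂₁ ≠ 0 := by
  obtain ⟨W', hle, hc⟩ := h.symm.exists_isCompl
  have h6 : finrank K W' = 6 := by
    have h1 := Submodule.finrank_add_eq_of_isCompl hc
    rw [hW, finrank_fintype_fun_eq_card, Fintype.card_sum, Fintype.card_fin, Fintype.card_fin] at h1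
    omega
  let b : Basis (Fin 2 ⊕ Fin 6) K (Fin 2 ⊕ Fin 6 → K) :=
    ((finBasisOfFinrankEq K W hW).prod (finBasisOfFinrankEq K W' h6)).map (W.prodEquivOfIsCompl W' hc.symm)
  have hb1 : ∀ j, b (Sum.inl j) ∈ W := fun j => by
    simp [b]
  have hb2 : ∀ w ∈ W', ∀ i, b.repr w (Sum.inl i) = 0 := fun w hw i => by
    have h2 : (W.prodEquivOfIsCompl W' hc.symm).symm w = ((0 : W), (⟨w, hw⟩ : W')) := by
      rw [LinearEquiv.symm_apply_eq]
      simp
    simp [b, h2]
  have hb3 : ∀ w ∈ W, ∀ i, b.repr w (Sum.inr i) = 0 := fun w hw i => by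
    have h2 : (W.prodEquivOfIsCompl W' hc.symm).symm w = ((⟨w, hw⟩ : W), (0 : W')) := by
      rw [LinearEquiv.symm_apply_eq]
      simp
    simp [b, h2]
  have h4 : ∀ j, (Matrix.toLin' M) (b (Sum.inl j)) =
      ((Matrix.toLin' M - LinearMap.id : (Fin 2 ⊕ Fin 6 → K) →ₗ[K] (Fin 2 ⊕ Fin 6 → K)) (b (Sum.inl j))) +
        b (Sum.inl j) := fun j => by simp
  have h3 : b.toMatrix (Pi.basisFun K _) * M * (Pi.basisFun K _).toMatrix b =
      LinearMap.toMatrix b b (Matrix.toLin' M) := by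
    rw [← basis_toMatrix_mul_linearMap_toMatrix_mul_basis_toMatrix b (Pi.basisFun K _) b (Pi.basisFun K _),
      LinearMap.toMatrix_eq_toMatrix', LinearMap.toMatrix'_toLin']
  refine ⟨b.toMatrix (Pi.basisFun K _), (Pi.basisFun K _).toMatrix b, b.toMatrix_mul_toMatrix_flip _, ?_, ?_⟩
  · rw [h3]
    ext i j
    rw [Matrix.toBlocks₁₁, Matrix.of_apply, LinearMap.toMatrix_apply]
    rw [h4, map_add, Finsupp.add_apply, hb2 _ (hle ⟨_, hb1 j, rfl⟩) i, zero_add, b.repr_self]
    by_cases hij : i = j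
    · subst hij
      simp
    · rw [Matrix.one_apply_ne hij, Finsupp.single_apply, if_neg]
      intro h5
      exact hij (Sum.inl_injective h5).symm
  · rw [h3]
    intro h5
    apply hne
    have h7 : ∀ j, (Matrix.toLin' M - LinearMap.id : (Fin 2 ⊕ Fin 6 → K) →ₗ[K] (Fin 2 ⊕ Fin 6 → K))
        (b (Sum.inl j)) = 0 := by
      intro j
      rw [← b.repr.map_eq_zero_iff]
      ext i
      rcases i with i | i
      · rw [hb2 _ (hle ⟨_, hb1 j, rfl⟩) i, Finsupp.coe_zero, Pi.zero_apply]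
      · have h8 := congrFun (congrFun h5 i) j
        rw [Matrix.toBlocks₂₁, Matrix.of_apply, LinearMap.toMatrix_apply, h4, map_add, Finsupp.add_apply,
          hb3 _ (hb1 j), add_zero] at h8
        exact h8
    have h9 : (Matrix.toLin' M - LinearMap.id : (Fin 2 ⊕ Fin 6 → K) →ₗ[K] (Fin 2 ⊕ Fin 6 → K)) e = 0 := by
      rw [← b.sum_repr e, map_sum, Fintype.sum_sum_type]
      simp only [map_smul, h7, smul_zero, Finset.sum_const_zero, zero_add, hb3 _ he, zero_smul, map_zero]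
    simpa [sub_eq_zero] using h9

/-- the correction -/
theorem exists_theta {X : Matrix (Fin 6) (Fin 2) K} (hX : X ≠ 0) :
    ∃ θ : Matrix (Fin 2) (Fin 6) K, θ * X = 0 ∧ X * θ ≠ 0 := by
  obtain ⟨i, j, hij⟩ : ∃ i j, X i j ≠ 0 := by
    by_contra hcon
    push Not at hcon
    exact hX (by ext i j; exact hcon i j)
  obtain ⟨lam, hl0, hl⟩ : ∃ lam : Fin 6 → K, lam ≠ 0 ∧ lam ᵥ* X = 0 := by
    have h1 : LinearMap.ker (Matrix.vecMulLinear X) ≠ ⊥ := by
      apply LinearMap.ker_ne_bot_of_finrank_lt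
      rw [finrank_fintype_fun_eq_card, finrank_fintype_fun_eq_card, Fintype.card_fin, Fintype.card_fin]
      norm_num
    obtain ⟨v, hv, hv0⟩ := Submodule.exists_mem_ne_zero_of_ne_bot h1
    exact ⟨v, hv0, hv⟩
  obtain ⟨k, hk⟩ : ∃ k, lam k ≠ 0 := by
    by_contra hcon
    push Not at hcon
    exact hl0 (funext hcon)
  refine ⟨Matrix.of fun a b => if a = j then lam b else 0, ?_, fun h0 => ?_⟩
  · ext a b
    rw [Matrix.mul_apply, Matrix.zero_apply]
    by_cases ha : a = j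
    · have h1 := congrFun hl b
      simpa [ha, Matrix.vecMul, dotProduct] using h1
    · simp [ha]
  · have h1 := congrFun (congrFun h0 i) k
    rw [Matrix.mul_apply, Matrix.zero_apply] at h1
    simp only [Matrix.of_apply, mul_ite, mul_zero, Finset.sum_ite_eq', Finset.mem_univ, if_true] at h1
    exact mul_ne_zero hij hk h1

/-- **L1** -/
theorem exists_form [Finite K] (N : Matrix (Fin 2 ⊕ Fin 6) (Fin 2 ⊕ Fin 6) K) (hN : N.det ≠ 0)
    (h : ∀ μ : K, 2 ≤ (N - Matrix.scalar (Fin 2 ⊕ Fin 6) μ).rank) (κ : K) :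
    ∃ (S : Matrix.SpecialLinearGroup (Fin 2 ⊕ Fin 6) K) (X : Matrix (Fin 6) (Fin 2) K)
      (Y : Matrix (Fin 2) (Fin 6) K) (C : Matrix (Fin 6) (Fin 6) K),
      S.1 * N * (S⁻¹).1 = fromBlocks 1 0 X 1 * fromBlocks 1 0 0 C * fromBlocks 1 Y 0 1 ∧ C ≠ κ • (1 : Matrix (Fin 6) (Fin 6) K) := by
  classical
  -- the plane
  have hr : ∀ δ : K, 2 ≤ finrank K (LinearMap.range ((Matrix.toLin' N - LinearMap.id) - δ • LinearMap.id)) := by
    intro δ
    have h1 := h (δ + 1)
    have h2 : (N - Matrix.scalar (Fin 2 ⊕ Fin 6) (δ + 1)).mulVecLin =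
        (Matrix.toLin' N - LinearMap.id) - δ • LinearMap.id := by
      refine LinearMap.ext fun v => ?_
      rw [Matrix.mulVecLin_apply, Matrix.sub_mulVec, LinearMap.sub_apply, LinearMap.sub_apply, Matrix.toLin'_apply,
        LinearMap.smul_apply, LinearMap.id_apply, Matrix.scalar_apply, Matrix.diagonal_const_mulVec, add_smul,
        one_smul]
      abel
    rw [Matrix.rank, h2] at h1
    exact h1
  obtain ⟨e, g, heg⟩ := exists_indep (V := Fin 2 ⊕ Fin 6 → K) (by rw [finrank_fintype_fun_eq_card]; simp) _ hr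
  set T₀ : (Fin 2 ⊕ Fin 6 → K) →ₗ[K] (Fin 2 ⊕ Fin 6 → K) := Matrix.toLin' N - LinearMap.id with hT₀
  have hW : finrank K (Submodule.span K {e, g} : Submodule K (Fin 2 ⊕ Fin 6 → K)) = 2 := by
    have h5 : LinearIndependent K ![e, g] := by
      rw [LinearIndependent.pair_iff]
      intro s t hst
      obtain ⟨a1, -, a3, -⟩ := heg s 0 t 0 (by rw [zero_smul, zero_smul, add_zero, add_zero]; exact hst)
      exact ⟨a1, a3⟩
    have h7 := finrank_span_eq_card h5
    rw [Fintype.card_fin, Matrix.range_cons, Matrix.range_cons, Matrix.range_empty, Set.union_empty,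
      Set.singleton_union] at h7
    exact h7
  have hd : Disjoint (Submodule.span K {e, g}) ((Submodule.span K {e, g}).map T₀) := by
    rw [Submodule.disjoint_def]
    intro w hw hw'
    rw [Submodule.map_span, Set.image_pair, Submodule.mem_span_pair] at hw'
    rw [Submodule.mem_span_pair] at hw
    obtain ⟨a, b, rfl⟩ := hw
    obtain ⟨c, t, h10⟩ := hw'
    obtain ⟨a1, -, a3, -⟩ := heg a (-c) b (-t) (by
      rw [neg_smul, neg_smul]
      have h11 : a • e + -(c • T₀ e) + b • g + -(t • T₀ g) = (a • e + b • g) - (c • T₀ e + t • T₀ g) := by abel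
      rw [h11, h10, sub_self])
    rw [a1, a3, zero_smul, zero_smul, add_zero]
  have hne : Matrix.toLin' N e ≠ e := by
    intro h0
    have h1 : T₀ e = 0 := by rw [hT₀, LinearMap.sub_apply, h0, LinearMap.id_apply, sub_self]
    obtain ⟨-, a2, -, -⟩ := heg 0 1 0 0 (by rw [h1]; simp)
    exact one_ne_zero a2
  obtain ⟨S₀, T, hST, hB, hX⟩ := exists_block' _ hW hd (Submodule.subset_span (by simp)) hne
  have hdet : S₀.det * T.det = 1 := by rw [← Matrix.det_mul, hST, Matrix.det_one]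
  have hS0 : S₀.det ≠ 0 := left_ne_zero_of_mul_eq_one hdet
  obtain ⟨S₁, T₁, hST₁, hdet₁, X, Y, D, hX₁, hM₁⟩ : ∃ S₁ T₁ : Matrix (Fin 2 ⊕ Fin 6) (Fin 2 ⊕ Fin 6) K,
      S₁ * T₁ = 1 ∧ S₁.det = 1 ∧ ∃ (X : Matrix (Fin 6) (Fin 2) K) (Y : Matrix (Fin 2) (Fin 6) K)
        (D : Matrix (Fin 6) (Fin 6) K), X ≠ 0 ∧ S₁ * N * T₁ = fromBlocks 1 Y X D := by
    set s := S₀.det with hs
    let E : Matrix (Fin 6) (Fin 6) K := diagonal fun k => if k = 5 then s⁻¹ else 1
    let E' : Matrix (Fin 6) (Fin 6) K := diagonal fun k => if k = 5 then s else 1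
    have hEE : E * E' = 1 := by
      rw [diagonal_mul_diagonal, ← diagonal_one]
      congr 1
      ext k
      by_cases hk : k = 5
      · simp [hk, hS0]
      · simp [hk]
    have hEE' : E' * E = 1 := mul_eq_one_comm.1 hEE
    have hEd : E.det = s⁻¹ := by
      rw [det_diagonal, Finset.prod_ite_eq' Finset.univ (5 : Fin 6) (fun _ => s⁻¹)]
      simp
    refine ⟨fromBlocks 1 0 0 E * S₀, T * fromBlocks 1 0 0 E', ?_, ?_, E * (S₀ * N * T).toBlocks₂₁,
      (S₀ * N * T).toBlocks₁₂ * E', E * (S₀ * N * T).toBlocks₂₂ * E', ?_, ?_⟩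
    · calc fromBlocks 1 0 0 E * S₀ * (T * fromBlocks 1 0 0 E')
          = fromBlocks 1 0 0 E * (S₀ * T) * fromBlocks 1 0 0 E' := by simp only [Matrix.mul_assoc]
        _ = 1 := by
          rw [hST, Matrix.mul_one, fromBlocks_multiply]
          simp [hEE]
    · rw [det_mul, det_fromBlocks_zero₂₁, det_one, one_mul, hEd, ← hs, inv_mul_cancel₀ hS0]
    · intro h0
      apply hX
      have h1 : E' * (E * (S₀ * N * T).toBlocks₂₁) = (S₀ * N * T).toBlocks₂₁ := by
        rw [← Matrix.mul_assoc, hEE', Matrix.one_mul]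
      rw [← h1, h0, Matrix.mul_zero]
    · calc fromBlocks 1 0 0 E * S₀ * N * (T * fromBlocks 1 0 0 E')
          = fromBlocks 1 0 0 E * (S₀ * N * T) * fromBlocks 1 0 0 E' := by simp only [Matrix.mul_assoc]
        _ = fromBlocks 1 0 0 E * fromBlocks (S₀ * N * T).toBlocks₁₁ (S₀ * N * T).toBlocks₁₂
            (S₀ * N * T).toBlocks₂₁ (S₀ * N * T).toBlocks₂₂ * fromBlocks 1 0 0 E' := by
          rw [fromBlocks_toBlocks]
        _ = _ := by
          rw [hB, fromBlocks_multiply, fromBlocks_multiply]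
          simp
  -- from `S₁, T₁` to an element of the group
  have hfin : ∀ (S₂ T₂ : Matrix (Fin 2 ⊕ Fin 6) (Fin 2 ⊕ Fin 6) K) (X : Matrix (Fin 6) (Fin 2) K)
      (Y : Matrix (Fin 2) (Fin 6) K) (D : Matrix (Fin 6) (Fin 6) K), S₂ * T₂ = 1 → S₂.det = 1 →
      S₂ * N * T₂ = fromBlocks 1 Y X D → D - X * Y ≠ κ • (1 : Matrix (Fin 6) (Fin 6) K) →
      ∃ (S : Matrix.SpecialLinearGroup (Fin 2 ⊕ Fin 6) K) (X : Matrix (Fin 6) (Fin 2) K)
        (Y : Matrix (Fin 2) (Fin 6) K) (C : Matrix (Fin 6) (Fin 6) K),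
        S.1 * N * (S⁻¹).1 = fromBlocks 1 0 X 1 * fromBlocks 1 0 0 C * fromBlocks 1 Y 0 1 ∧
          C ≠ κ • (1 : Matrix (Fin 6) (Fin 6) K) := by
    intro S₂ T₂ X Y D h1 h2 h3 h4
    let S' : Matrix.SpecialLinearGroup (Fin 2 ⊕ Fin 6) K := ⟨S₂, h2⟩
    have h5 : (S'⁻¹).1 = T₂ := by
      have h3 : S₂ * (S'⁻¹).1 = 1 := congrArg Subtype.val (mul_inv_cancel S')
      have h4 : T₂ * S₂ = 1 := mul_eq_one_comm.1 h1
      calc (S'⁻¹).1 = T₂ * S₂ * (S'⁻¹).1 := by rw [h4, one_mul]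
        _ = T₂ * (S₂ * (S'⁻¹).1) := mul_assoc _ _ _
        _ = T₂ := by rw [h3, mul_one]
    refine ⟨S', X, Y, D - X * Y, ?_, h4⟩
    rw [h5]
    show S₂ * N * T₂ = _
    rw [h3, fromBlocks_multiply, fromBlocks_multiply]
    simp
  by_cases hC : D - X * Y = κ • (1 : Matrix (Fin 6) (Fin 6) K)
  swap
  · exact hfin S₁ T₁ X Y D hST₁ hdet₁ hM₁ hC
  have hD : D = κ • (1 : Matrix (Fin 6) (Fin 6) K) + X * Y := by rw [← hC, sub_add_cancel]
  have hκ : κ ≠ 0 := by
    rintro rfl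
    apply hN
    have h1 : (S₁ * N * T₁).det = 0 := by
      rw [hM₁, hD, zero_smul, zero_add]
      have h2 : (fromBlocks 1 Y X (X * Y) : Matrix (Fin 2 ⊕ Fin 6) (Fin 2 ⊕ Fin 6) K) =
          fromBlocks 1 0 X 1 * fromBlocks 1 Y 0 0 := by
        rw [fromBlocks_multiply]
        simp
      rw [h2, det_mul, det_fromBlocks_zero₂₁ (A := (1 : Matrix (Fin 2) (Fin 2) K)),
        det_zero, mul_zero, mul_zero]
    have h3 : S₁.det * T₁.det = 1 := by rw [← det_mul, hST₁, det_one]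
    rw [det_mul, det_mul, mul_right_comm, h3, one_mul] at h1
    exact h1
  obtain ⟨θ, hθ1, hθ2⟩ := exists_theta hX₁
  have hθ3 : θ * X * θ = 0 := by rw [hθ1, Matrix.zero_mul]
  refine hfin (fromBlocks 1 (-θ) 0 1 * S₁) (T₁ * fromBlocks 1 θ 0 1) X (θ + Y - θ * D) (X * θ + D) ?_ ?_ ?_ ?_
  · calc fromBlocks 1 (-θ) 0 1 * S₁ * (T₁ * fromBlocks 1 θ 0 1)
        = fromBlocks 1 (-θ) 0 1 * (S₁ * T₁) * fromBlocks 1 θ 0 1 := by simp only [Matrix.mul_assoc]
      _ = 1 := by
        rw [hST₁, Matrix.mul_one, fromBlocks_multiply]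
        simp
  · rw [det_mul, det_fromBlocks_zero₂₁, det_one, det_one, one_mul, one_mul, hdet₁]
  · calc fromBlocks 1 (-θ) 0 1 * S₁ * N * (T₁ * fromBlocks 1 θ 0 1)
        = fromBlocks 1 (-θ) 0 1 * (S₁ * N * T₁) * fromBlocks 1 θ 0 1 := by simp only [Matrix.mul_assoc]
      _ = _ := by
        rw [hM₁, fromBlocks_multiply, fromBlocks_multiply]
        simp only [Matrix.one_mul, Matrix.zero_mul, zero_add, Matrix.neg_mul, hθ1, neg_zero, add_zero,
          Matrix.mul_one, Matrix.mul_zero]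
        congr 1
        abel
  · intro h0
    apply hθ2
    have h1 : X * θ + D - X * (θ + Y - θ * D) = κ • (1 : Matrix (Fin 6) (Fin 6) K) + κ • (X * θ) := by
      rw [Matrix.mul_sub, Matrix.mul_add, hD, Matrix.mul_add θ, ← Matrix.mul_assoc θ X Y, hθ1, Matrix.zero_mul,
        add_zero, Matrix.mul_smul, Matrix.mul_one, Matrix.mul_smul]
      abel
    rw [h1, add_eq_left] at h0
    exact (smul_eq_zero.1 h0).resolve_left hκ

/-- **L1** for matrices of degree `8` -/
theorem exists_form8 [Finite K] (e : Fin 2 ⊕ Fin 6 ≃ Fin 8) (N : Matrix (Fin 8) (Fin 8) K) (hN : N.det ≠ 0)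
    (h : ∀ μ : K, 2 ≤ (N - Matrix.scalar (Fin 8) μ).rank) (κ : K) :
    ∃ (S : Matrix.SpecialLinearGroup (Fin 2 ⊕ Fin 6) K) (X : Matrix (Fin 6) (Fin 2) K)
      (Y : Matrix (Fin 2) (Fin 6) K) (C : Matrix (Fin 6) (Fin 6) K),
      S.1 * N.submatrix e e * (S⁻¹).1 = fromBlocks 1 0 X 1 * fromBlocks 1 0 0 C * fromBlocks 1 Y 0 1 ∧
        C ≠ κ • (1 : Matrix (Fin 6) (Fin 6) K) := by
  refine exists_form (N.submatrix e e) (by rwa [Matrix.det_submatrix_equiv_self]) (fun μ => ?_) κ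
  have h1 : N.submatrix e e - Matrix.scalar (Fin 2 ⊕ Fin 6) μ = (N - Matrix.scalar (Fin 8) μ).submatrix e e := by
    ext i j
    simp [Matrix.scalar_apply, Matrix.diagonal_apply]
  rw [h1, Matrix.rank_submatrix]
  exact h μ

end Cfsg.Agent.H422.TW
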