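import Cfsg.Agent.H422.TW.LemB
import Mathlib.FieldTheory.Finiteness
import Mathlib.LinearAlgebra.Eigenspace.Basic

/-!
# Planes disjoint from their image (helper422)

`V` of dimension `8` over a finite field, `N` an endomorphism such that `N - δ` has rank at least `2` for all `δ ≠ 0`: there is a
plane `W` with `W ∩ N W = 0`.
-/

set_option autoImplicit false

namespace Cfsg.Agent.H422.TW

open Module Matrix

variable {K : Type*} [Field K] {V : Type*} [AddCommGroup V] [Module K V] [FiniteDimensional K V]

theorem finrank_comap_le' (N : V →ₗ[K] V) (U : Submodule K V) :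
    finrank K ↥(U.comap N) ≤ finrank K ↥(U ⊓ LinearMap.range N) + finrank K (LinearMap.ker N) := by
  have h1 := (N.domRestrict (U.comap N)).finrank_range_add_finrank_ker
  have h2 : finrank K ↥(LinearMap.range (N.domRestrict (U.comap N))) ≤ finrank K ↥(U ⊓ LinearMap.range N) := by
    refine Submodule.finrank_mono ?_
    rintro _ ⟨w, rfl⟩
    exact ⟨w.2, ⟨_, rfl⟩⟩
  have h3 : finrank K ↥(LinearMap.ker (N.domRestrict (U.comap N))) ≤ finrank K (LinearMap.ker N) := by
    rw [← Submodule.finrank_map_subtype_eq]
    refine Submodule.finrank_mono ?_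
    rintro _ ⟨w, hw, rfl⟩
    exact hw
  omega

open scoped Classical in
omit [FiniteDimensional K V] in
theorem card_filter [Fintype V] [Fintype K] (X : Submodule K V) :
    (Finset.univ.filter (· ∈ X)).card = Fintype.card K ^ finrank K X := by
  rw [← Module.card_eq_pow_finrank (K := K) (V := X), Fintype.card_subtype]

/-- counting -/
theorem exists_notMem [Finite K] (hd : finrank K V = 8) (A : Submodule K V) (hA : finrank K A ≤ 2)
    (C : K → Submodule K V) (d : K) (h7 : finrank K (C d) ≤ 7) (h6 : ∀ δ, δ ≠ d → finrank K (C δ) ≤ 6) :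
    ∃ v, v ∉ A ∧ ∀ δ, v ∉ C δ := by
  classical
  let _ : Fintype K := Fintype.ofFinite K
  have hVf : Finite V := Module.finite_of_finite K
  let _ : Fintype V := Fintype.ofFinite V
  by_contra hcon
  push Not at hcon
  set q := Fintype.card K with hq
  have hq2 : 2 ≤ q := Fintype.one_lt_card
  have h1 : (Finset.univ : Finset V) ⊆ Finset.univ.filter (· ∈ A) ∪ (Finset.univ.filter (· ∈ C d) ∪
      (Finset.univ.erase d).biUnion fun δ => Finset.univ.filter (· ∈ C δ)) := by
    intro v _
    rw [Finset.mem_union, Finset.mem_union, Finset.mem_biUnion]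
    by_cases hv : v ∈ A
    · exact Or.inl (by simp [hv])
    · right
      obtain ⟨δ, hδ⟩ := hcon v hv
      by_cases h : δ = d
      · subst h
        exact Or.inl (by simp [hδ])
      · exact Or.inr ⟨δ, by simp [h], by simp [hδ]⟩
  have h2 := (Finset.card_le_card h1).trans ((Finset.card_union_le _ _).trans
    (Nat.add_le_add_left (Finset.card_union_le _ _) _))
  have h3 : ((Finset.univ.erase d).biUnion fun δ => (Finset.univ : Finset V).filter (· ∈ C δ)).card ≤
      (q - 1) * q ^ 6 := by
    refine (Finset.card_biUnion_le_card_mul _ _ (q ^ 6) fun δ hδ => ?_).trans (le_of_eq ?_)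
    · rw [card_filter]
      exact Nat.pow_le_pow_right (by omega) (h6 δ (Finset.ne_of_mem_erase hδ))
    · rw [Finset.card_erase_of_mem (Finset.mem_univ _), Finset.card_univ]
  rw [Finset.card_univ, Module.card_eq_pow_finrank (K := K) (V := V), hd, card_filter, card_filter] at h2
  have h4 : Fintype.card K ^ finrank K A ≤ q ^ 2 := Nat.pow_le_pow_right (by omega) hA
  have h5 : Fintype.card K ^ finrank K (C d) ≤ q ^ 7 := Nat.pow_le_pow_right (by omega) h7
  have h8 : q ^ 8 ≤ q ^ 2 + (q ^ 7 + (q - 1) * q ^ 6) :=
    h2.trans (Nat.add_le_add h4 (Nat.add_le_add h5 h3))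
  obtain ⟨m, hm⟩ : ∃ m, q = m + 2 := ⟨q - 2, by omega⟩
  have h9 : q - 1 = m + 1 := by omega
  rw [h9] at h8
  rw [hm] at h8
  have h10 : (m + 2) ^ 2 < (m + 2) ^ 6 := Nat.pow_lt_pow_right (by omega) (by norm_num)
  have h11 : (m + 2) ^ 8 = (m + 2) ^ 7 * (m + 2) := pow_succ _ _
  have h12 : (m + 2) ^ 7 = (m + 2) ^ 6 * (m + 2) := pow_succ _ _
  nlinarith [h8, h10, h11, h12, Nat.zero_le m, Nat.zero_le ((m + 2) ^ 6 * m), Nat.zero_le ((m + 2) ^ 6 * m * m)]

/-- **the plane lemma** -/
theorem exists_plane_gen [Finite K] (hd : finrank K V = 8) (N : V →ₗ[K] V)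
    (h : ∀ δ : K, δ ≠ 0 → 2 ≤ finrank K (LinearMap.range (N - δ • LinearMap.id))) :
    ∃ W : Submodule K V, finrank K W = 2 ∧ Disjoint W (W.map N) := by
  classical
  by_cases hk : 2 ≤ finrank K (LinearMap.ker N)
  · obtain ⟨w, hw⟩ := exists_linearIndependent_of_le_finrank hk
    refine ⟨Submodule.span K (Set.range fun i => (w i : V)), ?_, ?_⟩
    · have h1 : LinearIndependent K fun i => (w i : V) :=
        hw.map' (Submodule.subtype _) (Submodule.ker_subtype _)
      rw [finrank_span_eq_card h1, Fintype.card_fin]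
    · have h2 : (Submodule.span K (Set.range fun i => (w i : V))).map N = ⊥ := by
        rw [Submodule.map_span, Submodule.span_eq_bot]
        rintro _ ⟨_, ⟨i, rfl⟩, rfl⟩
        exact (w i).2
      rw [h2]
      exact disjoint_bot_right
  push Not at hk
  set D : K → V →ₗ[K] V := fun δ => N - δ • LinearMap.id with hD
  have hDv : ∀ δ v, D δ v = N v - δ • v := fun δ v => by simp [hD]
  have hrk : ∀ δ, finrank K (LinearMap.range (D δ)) + finrank K (LinearMap.ker (D δ)) = 8 := fun δ => by
    rw [LinearMap.finrank_range_add_finrank_ker, hd]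
  have h6 : ∀ δ, finrank K (LinearMap.ker (D δ)) ≤ 6 := by
    intro δ
    by_cases h0 : δ = 0
    · subst h0
      have : D 0 = N := by simp [hD]
      rw [this]
      omega
    · have h1 : 2 ≤ finrank K (LinearMap.range (D δ)) := h δ h0
      have h2 := hrk δ
      omega
  have hpair : ∀ δ δ', δ ≠ δ' → finrank K (LinearMap.ker (D δ)) + finrank K (LinearMap.ker (D δ')) ≤ 8 := by
    intro δ δ' hne
    have h1 : Disjoint (LinearMap.ker (D δ)) (LinearMap.ker (D δ')) := by
      rw [Submodule.disjoint_def]
      intro v hv hv'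
      rw [LinearMap.mem_ker, hDv] at hv hv'
      have h2 : (δ - δ') • v = 0 := by
        rw [sub_smul, ← sub_eq_zero.1 hv, ← sub_eq_zero.1 hv', sub_self]
      exact (smul_eq_zero.1 h2).resolve_left (sub_ne_zero.2 hne)
    have h3 := Submodule.finrank_add_finrank_le_of_disjoint h1
    rwa [hd] at h3
  -- the special eigenvalue
  obtain ⟨d, hdd⟩ : ∃ d, ∀ δ, δ ≠ d → finrank K (LinearMap.ker (D δ)) ≤ 4 := by
    by_cases hex : ∃ d, 5 ≤ finrank K (LinearMap.ker (D d))
    · obtain ⟨d, hd5⟩ := hex
      exact ⟨d, fun δ hδ => by have := hpair δ d hδ; omega⟩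
    · push Not at hex
      exact ⟨0, fun δ _ => by have := hex δ; omega⟩
  obtain ⟨R, hR2, hR⟩ : ∃ R : Submodule K V, finrank K R ≤ 2 ∧
      (finrank K (LinearMap.ker (D d)) = 6 → R = LinearMap.range (D d)) := by
    by_cases h1 : finrank K (LinearMap.ker (D d)) = 6
    · exact ⟨LinearMap.range (D d), by have := hrk d; omega, fun _ => rfl⟩
    · exact ⟨⊥, by simp, fun h2 => absurd h2 h1⟩
  obtain ⟨e, heR, he⟩ := exists_notMem hd R hR2 (fun δ => LinearMap.ker (D δ)) d ((h6 d).trans (by norm_num))
    (fun δ _ => h6 δ)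
  have he0 : e ≠ 0 := by
    rintro rfl
    exact heR R.zero_mem
  have hNe : ∀ c : K, N e ≠ c • e := fun c hc => he c (by rw [LinearMap.mem_ker, hDv, hc, sub_self])
  set U : Submodule K V := Submodule.span K {e, N e} with hU
  have hUd : finrank K U ≤ 2 := by
    have h1 := finrank_span_finset_le_card (R := K) ({e, N e} : Finset V)
    rw [Set.finrank, Finset.coe_insert, Finset.coe_singleton] at h1
    exact h1.trans Finset.card_le_two
  have heU : e ∈ U := Submodule.subset_span (by simp)
  have hNeU : N e ∈ U := Submodule.subset_span (by simp)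
  obtain ⟨g, hgU, hg⟩ := exists_notMem hd U hUd (fun δ => U.comap (D δ)) d
    (by
      have h1 := finrank_comap_le' (D d) U
      have h2 := Submodule.finrank_mono (inf_le_left : U ⊓ LinearMap.range (D d) ≤ U)
      have h3 := h6 d
      by_cases h4 : finrank K (LinearMap.ker (D d)) = 6
      · have h5 : U ⊓ LinearMap.range (D d) < U := by
          refine lt_of_le_of_ne inf_le_left fun h5 => ?_
          rw [← hR h4] at h5
          have : e ∈ U ⊓ R := by rw [h5]; exact heU
          exact heR this.2
        have h6 := Submodule.finrank_lt_finrank_of_lt h5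
        show finrank K ↥(U.comap (D d)) ≤ 7
        omega
      · show finrank K ↥(U.comap (D d)) ≤ 7
        omega)
    (fun δ hδ => by
      have h1 := finrank_comap_le' (D δ) U
      have h2 := Submodule.finrank_mono (inf_le_left : U ⊓ LinearMap.range (D δ) ≤ U)
      have h3 := hdd δ hδ
      show finrank K ↥(U.comap (D δ)) ≤ 6
      omega)
  refine ⟨Submodule.span K {e, g}, ?_, ?_⟩
  · have h5 : LinearIndependent K ![e, g] := by
      rw [LinearIndependent.pair_iff]
      intro s t hst
      by_cases ht : t = 0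
      · subst ht
        rw [zero_smul, add_zero] at hst
        exact ⟨(smul_eq_zero.1 hst).resolve_right he0, rfl⟩
      · exfalso
        refine hgU ?_
        have h7 : t • g = (-s) • e := by
          rw [neg_smul]
          exact (neg_eq_of_add_eq_zero_right hst).symm
        have h8 : g = t⁻¹ • ((-s) • e) := by rw [← h7, smul_smul, inv_mul_cancel₀ ht, one_smul]
        rw [h8]
        exact U.smul_mem _ (U.smul_mem _ heU)
    have h7 := finrank_span_eq_card h5
    rw [Fintype.card_fin, Matrix.range_cons, Matrix.range_cons, Matrix.range_empty, Set.union_empty,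
      Set.singleton_union] at h7
    exact h7
  · rw [Submodule.disjoint_def]
    intro w hw hw'
    rw [Submodule.map_span, Set.image_pair, Submodule.mem_span_pair] at hw'
    rw [Submodule.mem_span_pair] at hw
    obtain ⟨a, b, rfl⟩ := hw
    obtain ⟨c, t, h10⟩ := hw'
    have ha : a • e ∈ U := U.smul_mem _ heU
    have hc : c • N e ∈ U := U.smul_mem _ hNeU
    by_cases ht : t = 0
    · subst ht
      rw [zero_smul, add_zero] at h10
      by_cases hb : b = 0
      · subst hb
        rw [zero_smul, add_zero] at h10 ⊢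
        by_cases hc0 : c = 0
        · subst hc0
          rw [← h10, zero_smul]
        · exfalso
          refine hNe (c⁻¹ * a) ?_
          rw [mul_smul, ← h10, smul_smul, inv_mul_cancel₀ hc0, one_smul]
      · exfalso
        refine hgU ?_
        have h11 : b • g = c • N e - a • e := by rw [h10]; abel
        have h12 : g = b⁻¹ • (c • N e - a • e) := by rw [← h11, smul_smul, inv_mul_cancel₀ hb, one_smul]
        rw [h12]
        exact U.smul_mem _ (U.sub_mem hc ha)
    · exfalso
      refine hg (t⁻¹ * b) ?_
      rw [Submodule.mem_comap, hDv]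
      have h11 : t • (N g - (t⁻¹ * b) • g) = a • e - c • N e := by
        rw [smul_sub, smul_smul, ← mul_assoc, mul_inv_cancel₀ ht, one_mul]
        have : t • N g = a • e + b • g - c • N e := by rw [← h10]; abel
        rw [this]
        abel
      have h12 : N g - (t⁻¹ * b) • g = t⁻¹ • (a • e - c • N e) := by
        rw [← h11, smul_smul, inv_mul_cancel₀ ht, one_smul]
      rw [h12]
      exact U.smul_mem _ (U.sub_mem ha hc)

end Cfsg.Agent.H422.TW
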